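import Groth.Agent.ZeroCyc.K447.Deg
import Groth.Agent.ZeroCyc.K756.CharP
import Groth.Agent.ZeroCyc.K756.Rad
import Mathlib.RingTheory.Ideal.Quotient.Operations
import Mathlib.RingTheory.Ideal.GoingUp
import Mathlib.Algebra.Polynomial.Roots

/-!
# A law of degree `d` over a field has at most `d` points in its image
-/

set_option autoImplicit false

universe u

open scoped TensorProduct

namespace K447.ZCount

open K756.KerBC K756.Sat K756.BC K756.CharP

theorem card_le_of_finset {X : Type*} {d : ℕ} (h : ∀ s : Finset X, s.card ≤ d) :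
    Finite X ∧ Nat.card X ≤ d := by
  have hf : Finite X := by
    by_contra hX
    rw [not_finite_iff_infinite] at hX
    obtain ⟨s, hs⟩ := Infinite.exists_subset_card_eq X (d + 1)
    have := h s
    omega
  refine ⟨hf, ?_⟩
  have := Fintype.ofFinite X
  rw [Nat.card_eq_fintype_card]
  exact h Finset.univ

variable {K : Type u} [Field K] {B : Type u} [CommRing B] [Algebra K B] {d : ℕ}

theorem isIntegral_of_ker (G : PolLaw.MulLaw K B K d) (hG : PolLaw.ker G.law = ⊥) :
    Algebra.IsIntegral K B := by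
  refine ⟨fun b => ?_⟩
  have h1 := aeval_chp_mem_ker G b
  rw [hG] at h1
  obtain ⟨h2, h3⟩ := chp_expand G b
  have h4 : chp G.law b ≠ 0 := by
    intro h
    rw [h, Polynomial.coeff_zero] at h3
    have : (-1 : K) ^ d ≠ 0 := pow_ne_zero _ (neg_ne_zero.mpr one_ne_zero)
    exact this h3.symm
  exact IsAlgebraic.isIntegral ⟨chp G.law b, h4, h1⟩

theorem isMaximal (G : PolLaw.MulLaw K B K d) (hG : PolLaw.ker G.law = ⊥) (p : PrimeSpectrum B) :
    p.asIdeal.IsMaximal := by
  have := isIntegral_of_ker G hG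
  apply Ideal.isMaximal_of_isIntegral_of_isMaximal_comap (R := K)
  have : (p.asIdeal.comap (algebraMap K B)).IsPrime := inferInstance
  have h : p.asIdeal.comap (algebraMap K B) = ⊥ := by
    rcases Ideal.eq_bot_or_top (p.asIdeal.comap (algebraMap K B)) with h | h
    · exact h
    · exact absurd h this.ne_top
  rw [h]
  exact Ideal.bot_isMaximal

open Polynomial in
theorem card_le (G : PolLaw.MulLaw K B K d) (hG : PolLaw.ker G.law = ⊥)
    (s : Finset (PrimeSpectrum B)) : s.card ≤ d := by
  classical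
  by_contra hcon
  push Not at hcon
  let n := s.card
  let ι := s.equivFin
  let p : Fin n → Ideal B := fun i => (ι.symm i).1.asIdeal
  have hmax : ∀ i, (p i).IsMaximal := fun i => isMaximal G hG _
  have hcop : Pairwise fun i j => IsCoprime (p i) (p j) := by
    intro i j hij
    apply Ideal.isCoprime_of_isMaximal
    intro h
    apply hij
    apply ι.symm.injective
    apply Subtype.ext
    exact PrimeSpectrum.ext h
  -- elements with prescribed residues
  have hE : ∀ i : Fin n, ∃ e : B, ∀ j : Fin n, Ideal.Quotient.mk (p j) e = if i = j then 1 else 0 := by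
    intro i
    have h1 := Ideal.quotientInfToPiQuotient_surj hcop
      (fun j => if i = j then (1 : B ⧸ p j) else 0)
    obtain ⟨y, hy⟩ := h1
    obtain ⟨e, rfl⟩ := Ideal.Quotient.mk_surjective y
    exact ⟨e, fun j => congrFun hy j⟩
  choose e he using hE
  let b' : K[X] ⊗[K] B := ∑ i : Fin n, (X ^ (i : ℕ) : K[X]) ⊗ₜ[K] e i
  let F' : PolLaw.MulLaw K[X] (K[X] ⊗[K] B) K[X] d := bcm G K[X]
  obtain ⟨hdeg, hlead⟩ := chp_expand F' b'
  have hmem : aeval b' (chp F'.law b') ∈ (PolLaw.kerBC G.law K[X]).radical := by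
    rw [← ker_bcm]
    exact Ideal.le_radical (aeval_chp_mem_ker F' b')
  rw [K756.Rad.radical_kerBC, hG, Ideal.map_bot] at hmem
  have hne : chp F'.law b' ≠ 0 := by
    intro h
    rw [h, coeff_zero] at hlead
    have : (-1 : K[X]) ^ d ≠ 0 := pow_ne_zero _ (neg_ne_zero.mpr one_ne_zero)
    exact this hlead.symm
  have hroot : ∀ j : Fin n, eval (X ^ (j : ℕ) : K[X]) (chp F'.law b') = 0 := by
    intro j
    have hdom : IsDomain (B ⧸ p j) := Ideal.Quotient.isDomain_iff_prime _ |>.mpr (hmax j).isPrime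
    let _ : Algebra K[X] (B ⧸ p j)[X] := (mapRingHom (algebraMap K (B ⧸ p j))).toAlgebra
    have hmap : ∀ q : K[X], algebraMap K[X] (B ⧸ p j)[X] q = q.map (algebraMap K (B ⧸ p j)) :=
      fun q => rfl
    have : IsScalarTower K K[X] (B ⧸ p j)[X] := IsScalarTower.of_algebraMap_eq fun a => by
      rw [hmap, Polynomial.algebraMap_apply]
      exact (Polynomial.map_C (algebraMap K (B ⧸ p j))).symm
    let ρ : K[X] ⊗[K] B →ₐ[K[X]] (B ⧸ p j)[X] :=
      Algebra.TensorProduct.lift (Algebra.ofId K[X] (B ⧸ p j)[X])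
        ((Polynomial.CAlgHom (R := K) (A := B ⧸ p j)).comp (Ideal.Quotient.mkₐ K (p j)))
        (fun _ _ => Commute.all _ _)
    have h2 : ρ b' = X ^ (j : ℕ) := by
      change ρ (∑ i : Fin n, (X ^ (i : ℕ) : K[X]) ⊗ₜ[K] e i) = _
      rw [map_sum, Finset.sum_eq_single j]
      · rw [Algebra.TensorProduct.lift_tmul]
        change algebraMap K[X] (B ⧸ p j)[X] (X ^ (j : ℕ)) * C (Ideal.Quotient.mk (p j) (e j)) = _
        rw [he, if_pos rfl, C_1, mul_one, hmap, Polynomial.map_pow, Polynomial.map_X]
      · intro i _ hij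
        rw [Algebra.TensorProduct.lift_tmul]
        change algebraMap K[X] (B ⧸ p j)[X] (X ^ (i : ℕ)) * C (Ideal.Quotient.mk (p j) (e i)) = _
        rw [he, if_neg hij, C_0, mul_zero]
      · simp
    have h3 : ρ (aeval b' (chp F'.law b')) = 0 := by
      obtain ⟨m, hm⟩ := hmem
      have h4 : (ρ (aeval b' (chp F'.law b'))) ^ m = 0 := by
        rw [← map_pow]
        rw [show (aeval b' (chp F'.law b')) ^ m = 0 from hm, map_zero]
      exact eq_zero_of_pow_eq_zero h4
    rw [← aeval_algHom_apply, h2] at h3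
    have h5 : (X ^ (j : ℕ) : (B ⧸ p j)[X]) = algebraMap K[X] (B ⧸ p j)[X] (X ^ (j : ℕ)) := by
      rw [hmap, Polynomial.map_pow, Polynomial.map_X]
    rw [h5, aeval_algebraMap_apply] at h3
    have hinj : Function.Injective (algebraMap K[X] (B ⧸ p j)[X]) :=
      Polynomial.map_injective _ (algebraMap K (B ⧸ p j)).injective
    rw [coe_aeval_eq_eval] at h3
    exact (map_eq_zero_iff _ hinj).mp h3
  apply hne
  apply Polynomial.eq_zero_of_natDegree_lt_card_of_eval_eq_zero (chp F'.law b')
    (f := fun j : Fin n => (X ^ (j : ℕ) : K[X])) _ hroot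
  · rw [Fintype.card_fin]
    exact lt_of_le_of_lt hdeg hcon
  · intro i j hij
    have := congrArg natDegree hij
    simp only [natDegree_X_pow] at this
    exact Fin.ext this

end K447.ZCount
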