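import Groth.Agent.ZeroCyc.K756.BC
import Groth.Agent.ZeroCyc.K757.Factor
import Mathlib.RingTheory.Spectrum.Prime.Topology
import Mathlib.Topology.Connected.Clopen

/-!
# Multiplicative laws: descent to the image, degree of an idempotent, number of components

* `exists_desc`: a multiplicative law `F : B → A` factors through a law `B / ker F → A` with zero kernel.
* `exists_isDeg`: for `Spec A` connected and `e` idempotent, `F (X e + (1 - e)) = X ^ k`.
* `exists_cover`: if moreover `ker F = 0` then `Spec B` is a union of at most `d` connected subsets.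
-/

set_option autoImplicit false

universe u

open scoped TensorProduct

namespace K447.ZDeg

open K756.KerBC K756.Sat K756.BC

variable {A : Type u} [CommRing A] {B : Type u} [CommRing B] [Algebra A B] {d : ℕ}

/-- The law factors through its image, and the factored law has zero kernel. -/
theorem exists_desc (F : PolLaw.MulLaw A B A d) :
    ∃ G : PolLaw.MulLaw A (PolLaw.image F.law) A d, PolLaw.ker G.law = ⊥ := by
  let π : B →ₐ[A] PolLaw.image F.law := Ideal.Quotient.mkₐ A (PolLaw.ker F.law)
  have hπ : Function.Surjective π := Ideal.Quotient.mk_surjective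
  have hker : ∀ b : LinearMap.ker π.toLinearMap, (b : B) ∈ PolLaw.ker F.law := fun b => by
    have := b.2
    rw [LinearMap.mem_ker] at this
    exact Ideal.Quotient.eq_zero_iff_mem.mp this
  obtain ⟨G, hG⟩ := K757.Factor.exists_factor π.toLinearMap hπ F.law (by
    intro κ x y
    induction y using TensorProduct.induction_on generalizing x with
    | zero => simp
    | tmul s b =>
      have h1 : (LinearMap.ker π.toLinearMap).subtype.lTensor (MvPolynomial κ A) (s ⊗ₜ[A] b) =
          (s ⊗ₜ[A] (1 : B)) * ((1 : MvPolynomial κ A) ⊗ₜ[A] (b : B)) := by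
        rw [Algebra.TensorProduct.tmul_mul_tmul, mul_one, one_mul]
        rfl
      rw [h1]
      exact hker b _ x _
    | add y z hy hz =>
      rw [map_add, ← add_assoc, hz, hy])
  have hh : PolLaw.IsHomog G d := K757.Factor.isHomog_of_precomp π.toLinearMap hπ (by rw [hG]; exact F.homog)
  have hm : PolLaw.IsMult G := K757.Factor.isMult_of_precomp π hπ (by rw [hG]; exact F.mult)
  refine ⟨⟨G, hh, hm⟩, ?_⟩
  rw [eq_bot_iff]
  intro c hc
  obtain ⟨b, rfl⟩ := hπ c
  have hb : b ∈ PolLaw.ker F.law := by
    intro S _ _ x w
    rw [← hG]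
    change G.toFun' S (π.toLinearMap.lTensor S _) = G.toFun' S (π.toLinearMap.lTensor S _)
    rw [PolLaw.lTensor_algHom_apply, PolLaw.lTensor_algHom_apply, map_add, map_mul,
      Algebra.TensorProduct.map_tmul]
    exact hc S _ _
  exact Ideal.Quotient.eq_zero_iff_mem.mpr hb

variable (G : PolLaw.MulLaw A B A d)

/-- The element `t e + (1 - e)`. -/
noncomputable def el (T : Type u) [CommRing T] [Algebra A T] (t : T) (e : B) : T ⊗[A] B :=
  t ⊗ₜ[A] e + 1 ⊗ₜ[A] (1 - e)

theorem el_mul_el (T : Type u) [CommRing T] [Algebra A T] (t s : T) {e : B}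
    (he : IsIdempotentElem e) :
    el (A := A) T t e * el (A := A) T s e = el (A := A) T (t * s) e := by
  have h1 : e * (1 - e) = 0 := he.mul_one_sub_self
  have h2 : (1 - e) * e = 0 := he.one_sub_mul_self
  unfold el
  rw [mul_add, add_mul, add_mul]
  simp only [Algebra.TensorProduct.tmul_mul_tmul, h1, h2, he.eq, he.one_sub.eq,
    TensorProduct.tmul_zero, add_zero, zero_add, mul_one]

theorem el_mul_el' (T : Type u) [CommRing T] [Algebra A T] (t : T) {e f : B}
    (hef : e * f = 0) :
    el (A := A) T t e * el (A := A) T t f = el (A := A) T t (e + f) := by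
  have h1 : e * (1 - f) = e := by rw [mul_sub, mul_one, hef, sub_zero]
  have h2 : (1 - e) * f = f := by rw [sub_mul, one_mul, hef, sub_zero]
  have h3 : (1 - e) * (1 - f) = 1 - (e + f) := by rw [sub_mul, one_mul, h1]; ring
  unfold el
  rw [mul_add, add_mul, add_mul]
  simp only [Algebra.TensorProduct.tmul_mul_tmul, h1, h2, h3, hef, TensorProduct.tmul_zero, mul_one,
    one_mul, zero_add]
  rw [TensorProduct.tmul_add]
  ring

/-- The polynomial `F (X e + (1 - e))`. -/
noncomputable def P (e : B) : Polynomial A := val G.law (Polynomial A) (el (Polynomial A) Polynomial.X e)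

theorem aeval_P (e : B) (T : Type u) [CommRing T] [Algebra A T] (t : T) :
    Polynomial.aeval t (P G e) = val G.law T (el T t e) := by
  rw [P, ← val_bmap]
  congr 1
  simp [el]

theorem P_mul {e f : B} (hef : e * f = 0) : P G e * P G f = P G (e + f) := by
  rw [P, P, P, ← val_mul G.law G.mult, el_mul_el' _ _ hef]

theorem aeval_mul {e : B} (he : IsIdempotentElem e) (T : Type u) [CommRing T] [Algebra A T] (t s : T) :
    Polynomial.aeval t (P G e) * Polynomial.aeval s (P G e) = Polynomial.aeval (t * s) (P G e) := by
  rw [aeval_P, aeval_P, aeval_P, ← val_mul G.law G.mult, el_mul_el _ _ _ he]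

theorem P_one : P G 1 = Polynomial.X ^ d := by
  have h1 : el (A := A) (Polynomial A) Polynomial.X (1 : B) =
      (Polynomial.X : Polynomial A) • (1 : Polynomial A ⊗[A] B) := by
    rw [el, sub_self, TensorProduct.tmul_zero, add_zero, Algebra.TensorProduct.one_def,
      TensorProduct.smul_tmul', smul_eq_mul, mul_one]
  rw [P, h1, val_smul G.law G.homog, val_one G.law G.mult, mul_one]

theorem eval_one_P (e : B) : (P G e).eval 1 = 1 := by
  have h1 := aeval_P G e A 1
  have h2 : el A (1 : A) e = (1 : A ⊗[A] B) := by
    rw [el, ← TensorProduct.tmul_add, add_sub_cancel, Algebra.TensorProduct.one_def]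
  rw [h2, val_one G.law G.mult, Polynomial.coe_aeval_eq_eval] at h1
  exact h1

theorem P_mul_C {e : B} (he : IsIdempotentElem e) (l : ℕ) :
    P G e * Polynomial.C ((P G e).coeff l) = Polynomial.C ((P G e).coeff l) * Polynomial.X ^ l := by
  have h1 := aeval_mul G he (Polynomial (Polynomial A)) (Polynomial.C Polynomial.X) Polynomial.X
  have h2 : Polynomial.aeval (Polynomial.C Polynomial.X : Polynomial (Polynomial A)) (P G e) =
      Polynomial.C (P G e) := by
    induction P G e using Polynomial.induction_on' with
    | add p q hp hq => rw [map_add, hp, hq, map_add]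
    | monomial n a =>
      rw [Polynomial.aeval_monomial, ← Polynomial.C_mul_X_pow_eq_monomial, map_mul, map_pow]
      rfl
  have h3 : Polynomial.aeval (Polynomial.X : Polynomial (Polynomial A)) (P G e) =
      (P G e).map Polynomial.C := by
    rw [Polynomial.aeval_def, Polynomial.eval₂_eq_eval_map]
    induction P G e using Polynomial.induction_on' with
    | add p q hp hq => rw [Polynomial.map_add, Polynomial.eval_add, hp, hq, Polynomial.map_add]
    | monomial n a =>
      rw [Polynomial.map_monomial, Polynomial.eval_monomial, Polynomial.map_monomial,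
        ← Polynomial.C_mul_X_pow_eq_monomial]
      rfl
  have h4 : ∀ p : Polynomial A, (Polynomial.aeval (Polynomial.C Polynomial.X * Polynomial.X :
      Polynomial (Polynomial A)) p).coeff l = Polynomial.C (p.coeff l) * Polynomial.X ^ l := by
    intro p
    induction p using Polynomial.induction_on' with
    | add p q hp hq => rw [map_add, Polynomial.coeff_add, hp, hq, Polynomial.coeff_add, map_add, add_mul]
    | monomial n a =>
      rw [Polynomial.aeval_monomial, mul_pow, ← Polynomial.C_pow, ← mul_assoc]
      have : algebraMap A (Polynomial (Polynomial A)) a = Polynomial.C (Polynomial.C a) := rfl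
      rw [this, ← Polynomial.C_mul, Polynomial.coeff_C_mul_X_pow, Polynomial.coeff_monomial]
      by_cases h : l = n
      · rw [if_pos h, if_pos h.symm, h]
      · rw [if_neg h, if_neg (Ne.symm h), map_zero, zero_mul]
  rw [h2, h3] at h1
  have h5 := congrArg (fun q => Polynomial.coeff q l) h1
  simp only [Polynomial.coeff_C_mul, Polynomial.coeff_map, h4] at h5
  exact h5

section connected

variable [ConnectedSpace (PrimeSpectrum A)]

theorem eq_zero_or_one {a : A} (ha : IsIdempotentElem a) : a = 0 ∨ a = 1 := by
  have h1 : IsClopen (PrimeSpectrum.basicOpen a : Set (PrimeSpectrum A)) :=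
    PrimeSpectrum.isClopen_iff.mpr ⟨a, ha, rfl⟩
  rcases isClopen_iff.mp h1 with h | h
  · left
    have : PrimeSpectrum.basicOpen a = PrimeSpectrum.basicOpen (0 : A) := by
      rw [PrimeSpectrum.basicOpen_zero]
      exact SetLike.coe_injective h
    exact PrimeSpectrum.basicOpen_injOn_isIdempotentElem ha IsIdempotentElem.zero this
  · right
    have : PrimeSpectrum.basicOpen a = PrimeSpectrum.basicOpen (1 : A) := by
      rw [PrimeSpectrum.basicOpen_one]
      exact SetLike.coe_injective h
    exact PrimeSpectrum.basicOpen_injOn_isIdempotentElem ha IsIdempotentElem.one this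

theorem nontrivial_A : Nontrivial A := by
  have h := (inferInstance : ConnectedSpace (PrimeSpectrum A)).toNonempty
  exact PrimeSpectrum.nonempty_iff_nontrivial.mp h

theorem exists_deg {e : B} (he : IsIdempotentElem e) : ∃ k : ℕ, P G e = Polynomial.X ^ k := by
  have hA : Nontrivial A := nontrivial_A
  have hidem : ∀ l, IsIdempotentElem ((P G e).coeff l) := by
    intro l
    have h1 := congrArg (fun q => Polynomial.coeff q l) (P_mul_C G he l)
    simp only [Polynomial.coeff_mul_C, Polynomial.coeff_C_mul, Polynomial.coeff_X_pow, if_true,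
      mul_one] at h1
    exact h1
  by_cases h : ∃ l, (P G e).coeff l = 1
  · obtain ⟨l, hl⟩ := h
    refine ⟨l, ?_⟩
    have h2 := P_mul_C G he l
    rw [hl, map_one, mul_one, one_mul] at h2
    exact h2
  · exfalso
    push Not at h
    have h3 : P G e = 0 := by
      ext l
      rw [Polynomial.coeff_zero]
      exact (eq_zero_or_one (hidem l)).resolve_right (h l)
    have h4 := eval_one_P G e
    rw [h3, Polynomial.eval_zero] at h4
    exact zero_ne_one h4

omit [ConnectedSpace (PrimeSpectrum A)] in
theorem eq_zero_of_deg (hG : PolLaw.ker G.law = ⊥) {e : B} (he : IsIdempotentElem e)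
    (h0 : P G e = 1) : e = 0 := by
  have h1 : e ∈ PolLaw.ker G.law := by
    intro S _ _ x w
    rw [← val_inj]
    have h2 : val G.law S ((1 : S) ⊗ₜ[A] (1 - e)) = 1 := by
      let φ : A →ₐ[A] S := Algebra.ofId A S
      have h3 := aeval_P G e A 0
      rw [h0, map_one, el, TensorProduct.zero_tmul, zero_add] at h3
      have h4 := congrArg φ h3
      rw [← val_bmap, map_one] at h4
      simpa using h4.symm
    have h5 : ∀ y : S ⊗[A] B, val G.law S y = val G.law S (y * ((1 : S) ⊗ₜ[A] (1 - e))) := by
      intro y
      rw [val_mul G.law G.mult, h2, mul_one]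
    rw [h5, h5 x, add_mul, mul_assoc, Algebra.TensorProduct.tmul_mul_tmul, he.mul_one_sub_self,
      TensorProduct.tmul_zero, mul_zero, add_zero]
  rw [hG] at h1
  exact h1

theorem exists_cover_idem (hG : PolLaw.ker G.law = ⊥) (n : ℕ) : ∀ e : B, IsIdempotentElem e →
    P G e = Polynomial.X ^ n → ∃ f : Fin n → Set (PrimeSpectrum B),
      (∀ i, IsPreconnected (f i)) ∧ (PrimeSpectrum.basicOpen e : Set (PrimeSpectrum B)) ⊆ ⋃ i, f i := by
  have hA : Nontrivial A := nontrivial_A
  induction n using Nat.strong_induction_on with
  | _ n ih =>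
    intro e he hP
    by_cases hc : IsPreconnected (PrimeSpectrum.basicOpen e : Set (PrimeSpectrum B))
    · rcases Nat.eq_zero_or_pos n with hn | hn
      · subst hn
        have h1 : e = 0 := eq_zero_of_deg G hG he (by rw [hP, pow_zero])
        refine ⟨fun i => i.elim0, fun i => i.elim0, ?_⟩
        rw [h1, PrimeSpectrum.basicOpen_zero]
        simp
      · exact ⟨fun _ => (PrimeSpectrum.basicOpen e : Set (PrimeSpectrum B)), fun _ => hc,
          Set.subset_iUnion_of_subset ⟨0, hn⟩ subset_rfl⟩
    · rw [IsPreconnected] at hc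
      push Not at hc
      obtain ⟨u, v, hu, hv, hsub, ⟨x, hxe, hxu⟩, ⟨y, hye, hyv⟩, hdis⟩ := hc
      let D : Set (PrimeSpectrum B) := (PrimeSpectrum.basicOpen e : Set (PrimeSpectrum B))
      have hD : IsClopen D := PrimeSpectrum.isClopen_iff.mpr ⟨e, he, rfl⟩
      have hcompl : (D ∩ u)ᶜ = Dᶜ ∪ (D ∩ v) := by
        ext z
        simp only [Set.mem_compl_iff, Set.mem_inter_iff, Set.mem_union, not_and]
        constructor
        · intro h
          by_cases hz : z ∈ D
          · right
            refine ⟨hz, ?_⟩
            rcases hsub hz with h' | h'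
            · exact absurd h' (h hz)
            · exact h'
          · left; exact hz
        · rintro (h | ⟨h, h'⟩) hz hzu
          · exact h hz
          · have : z ∈ D ∩ (u ∩ v) := ⟨hz, hzu, h'⟩
            exact (Set.nonempty_iff_ne_empty.mp ⟨z, this⟩) hdis
      have hclo : IsClopen (D ∩ u) := by
        refine ⟨?_, hD.2.inter hu⟩
        rw [← isOpen_compl_iff, hcompl]
        exact hD.1.isOpen_compl.union (hD.2.inter hv)
      obtain ⟨e', he', hDe'⟩ := PrimeSpectrum.isClopen_iff.mp hclo
      have hee' : e' * e = e' := by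
        apply PrimeSpectrum.basicOpen_injOn_isIdempotentElem (he'.mul he) he'
        apply SetLike.coe_injective
        rw [PrimeSpectrum.basicOpen_mul]
        change (PrimeSpectrum.basicOpen e' : Set (PrimeSpectrum B)) ∩ D = _
        rw [← hDe', Set.inter_comm, ← Set.inter_assoc, Set.inter_self]
      let e'' : B := e - e'
      have he'' : IsIdempotentElem e'' := by
        change (e - e') * (e - e') = e - e'
        rw [mul_sub, sub_mul, sub_mul, he.eq, he'.eq, hee', mul_comm e e', hee']
        ring
      have horth : e' * e'' = 0 := by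
        change e' * (e - e') = 0
        rw [mul_sub, hee', he'.eq, sub_self]
      have hsum : e' + e'' = e := by
        change e' + (e - e') = e
        ring
      obtain ⟨k', hk'⟩ := exists_deg G he'
      obtain ⟨k'', hk''⟩ := exists_deg G he''
      have hadd : k' + k'' = n := by
        have h2 := P_mul G horth
        rw [hk', hk'', ← pow_add, hsum, hP] at h2
        have h3 := congrArg Polynomial.natDegree h2
        rwa [Polynomial.natDegree_X_pow, Polynomial.natDegree_X_pow] at h3
      have hDe'' : (PrimeSpectrum.basicOpen e'' : Set (PrimeSpectrum B)) = D ∩ v := by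
        have h4 : e'' = e * (1 - e') := by
          change e - e' = e * (1 - e')
          rw [mul_sub, mul_one, mul_comm e e', hee']
        have h5 : (PrimeSpectrum.basicOpen (1 - e') : Set (PrimeSpectrum B)) =
            (PrimeSpectrum.basicOpen e' : Set (PrimeSpectrum B))ᶜ := by
          rw [PrimeSpectrum.basicOpen_eq_zeroLocus_of_isIdempotentElem _ he'.one_sub, sub_sub_cancel,
            PrimeSpectrum.basicOpen_eq_zeroLocus_compl, compl_compl]
        rw [h4, PrimeSpectrum.basicOpen_mul]
        change D ∩ (PrimeSpectrum.basicOpen (1 - e') : Set (PrimeSpectrum B)) = _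
        rw [h5, ← hDe', hcompl]
        ext z
        simp only [Set.mem_inter_iff, Set.mem_union, Set.mem_compl_iff]
        tauto
      have hk'0 : k' ≠ 0 := by
        rintro rfl
        have h6 : e' = 0 := eq_zero_of_deg G hG he' (by rw [hk', pow_zero])
        have h7 : x ∈ D ∩ u := ⟨hxe, hxu⟩
        rw [hDe', h6, PrimeSpectrum.basicOpen_zero] at h7
        exact h7
      have hk''0 : k'' ≠ 0 := by
        rintro rfl
        have h6 : e'' = 0 := eq_zero_of_deg G hG he'' (by rw [hk'', pow_zero])
        have h7 : y ∈ D ∩ v := ⟨hye, hyv⟩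
        rw [← hDe'', h6, PrimeSpectrum.basicOpen_zero] at h7
        exact h7
      obtain ⟨f', hf', hf'c⟩ := ih k' (by omega) e' he' hk'
      obtain ⟨f'', hf'', hf''c⟩ := ih k'' (by omega) e'' he'' hk''
      subst hadd
      refine ⟨Fin.append f' f'', fun i => ?_, ?_⟩
      · refine Fin.addCases (fun i => ?_) (fun i => ?_) i
        · rw [Fin.append_left]; exact hf' i
        · rw [Fin.append_right]; exact hf'' i
      · intro z hz
        rcases hsub hz with h | h
        · have h8 : z ∈ (PrimeSpectrum.basicOpen e' : Set (PrimeSpectrum B)) := by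
            rw [← hDe']; exact ⟨hz, h⟩
          obtain ⟨i, hi⟩ := Set.mem_iUnion.mp (hf'c h8)
          exact Set.mem_iUnion.mpr ⟨Fin.castAdd k'' i, by rw [Fin.append_left]; exact hi⟩
        · have h8 : z ∈ (PrimeSpectrum.basicOpen e'' : Set (PrimeSpectrum B)) := by
            rw [hDe'']; exact ⟨hz, h⟩
          obtain ⟨i, hi⟩ := Set.mem_iUnion.mp (hf''c h8)
          exact Set.mem_iUnion.mpr ⟨Fin.natAdd k' i, by rw [Fin.append_right]; exact hi⟩

theorem exists_cover (hG : PolLaw.ker G.law = ⊥) : ∃ f : Fin d → Set (PrimeSpectrum B),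
      (∀ i, IsPreconnected (f i)) ∧ ⋃ i, f i = Set.univ := by
  obtain ⟨f, h1, h2⟩ := exists_cover_idem G hG d 1 IsIdempotentElem.one (P_one G)
  refine ⟨f, h1, ?_⟩
  rw [PrimeSpectrum.basicOpen_one] at h2
  exact Set.eq_univ_of_univ_subset h2

end connected

/-- A space covered by `d` connected sets has at most `d` components. -/
theorem card_components {X : Type*} [TopologicalSpace X] {d : ℕ} (f : Fin d → Set X)
    (h1 : ∀ i, IsPreconnected (f i)) (h2 : ⋃ i, f i = Set.univ) :
    Finite (ConnectedComponents X) ∧ Nat.card (ConnectedComponents X) ≤ d := by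
  classical
  let s : {i : Fin d // (f i).Nonempty} → ConnectedComponents X := fun i => (i.2.some : X)
  have hs : Function.Surjective s := by
    intro c
    obtain ⟨x, rfl⟩ := ConnectedComponents.surjective_coe c
    obtain ⟨i, hi⟩ := Set.mem_iUnion.mp (h2 ▸ Set.mem_univ x : x ∈ ⋃ i, f i)
    refine ⟨⟨i, x, hi⟩, ?_⟩
    change ((_ : X) : ConnectedComponents X) = _
    rw [ConnectedComponents.coe_eq_coe']
    exact (h1 i).subset_connectedComponent hi (Set.Nonempty.some_mem (⟨x, hi⟩ : (f i).Nonempty))
  have hfin : Finite (ConnectedComponents X) := Finite.of_surjective s hs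
  refine ⟨hfin, ?_⟩
  refine (Nat.card_le_card_of_surjective s hs).trans ?_
  calc Nat.card {i : Fin d // (f i).Nonempty} ≤ Nat.card (Fin d) :=
        Nat.card_le_card_of_injective _ Subtype.val_injective
    _ = d := Nat.card_fin d

end K447.ZDeg
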